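import Mathlib

/-! Fixity moments of transitive groups and the lines of a two-transitive group. -/

set_option autoImplicit false
set_option linter.unusedSectionVars false

namespace Cfsg.Agent.Derange12

open MulAction Finset

variable {G Ω : Type*} [Group G] [MulAction G Ω]

/-- Two-transitivity, unfolded. -/
def Two (G Ω : Type*) [Group G] [MulAction G Ω] : Prop :=
  ∀ a b c d : Ω, a ≠ b → c ≠ d → ∃ g : G, g • a = c ∧ g • b = d

variable (G) in
/-- The stabilizer of two points. -/
def pst (a b : Ω) : Subgroup G := stabilizer G a ⊓ stabilizer G b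

theorem mem_pst {a b : Ω} {k : G} : k ∈ pst G a b ↔ k • a = a ∧ k • b = b := Iff.rfl

theorem conj_mem_pst (g : G) {a b : Ω} {k : G} :
    k ∈ pst G a b ↔ g * k * g⁻¹ ∈ pst G (g • a) (g • b) := by
  simp [mem_pst, mul_smul]

variable [Fintype Ω] [DecidableEq Ω]

/-- Number of fixed points. -/
def fx (g : G) : ℕ := (univ.filter fun x : Ω => g • x = x).card

local notation "π" => fx (Ω := Ω)

theorem fx_le (g : G) : π g ≤ Fintype.card Ω := card_le_univ _

theorem fx_one : π (1 : G) = Fintype.card Ω := by simp [fx]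

theorem fx_conj (g k : G) : π (g * k * g⁻¹) = π k := by
  refine (card_bij (fun x _ => g • x) ?_ ?_ ?_).symm
  · intro x hx; simp only [mem_filter, mem_univ, true_and] at hx ⊢; simp [mul_smul, hx]
  · intro x _ y _ h; exact MulAction.injective g h
  · intro y hy
    simp only [mem_filter, mem_univ, true_and] at hy
    refine ⟨g⁻¹ • y, ?_, smul_inv_smul g y⟩
    simp only [mem_filter, mem_univ, true_and]
    rw [mul_smul, mul_smul] at hy
    conv_rhs => rw [← hy, inv_smul_smul]

theorem fx_lt [FaithfulSMul G Ω] {g : G} (hg : g ≠ 1) : π g < Fintype.card Ω := by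
  refine card_lt_univ_of_notMem (x := ?_) ?_
  · exact Classical.choose (show ∃ x : Ω, g • x ≠ x by
      by_contra h; push Not at h
      exact hg (eq_of_smul_eq_smul fun x : Ω => by rw [h x, one_smul]))
  · simp only [mem_filter, mem_univ, true_and]
    exact Classical.choose_spec (show ∃ x : Ω, g • x ≠ x by
      by_contra h; push Not at h
      exact hg (eq_of_smul_eq_smul fun x : Ω => by rw [h x, one_smul]))

theorem two_le_fx {a b : Ω} (hab : a ≠ b) {k : G} (hk : k ∈ pst G a b) : 2 ≤ π k := by
  obtain ⟨h1, h2⟩ := mem_pst.1 hk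
  calc 2 = ({a, b} : Finset Ω).card := (card_pair hab).symm
    _ ≤ π k := card_le_card (by intro x hx; simp at hx; rcases hx with rfl | rfl <;> simp [h1, h2])

/-- Number of derangements. -/
theorem card_derangements_eq [Fintype G] [DecidableEq G] :
    Nat.card {g : G // ∀ x : Ω, g • x ≠ x} = (univ.filter fun g : G => π g = 0).card := by
  rw [Nat.card_eq_fintype_card, Fintype.card_subtype]
  congr 1
  ext g
  simp [fx, filter_eq_empty_iff]

theorem sum_fx [Fintype G] [IsPretransitive G Ω] [Nonempty Ω] :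
    ∑ g : G, π g = Fintype.card G := by
  classical
  have h := sum_card_fixedBy_eq_card_orbits_mul_card_group G Ω
  have hq : Fintype.card (Quotient (orbitRel G Ω)) = 1 := by
    obtain ⟨x₀⟩ := (inferInstance : Nonempty Ω)
    refine Fintype.card_eq_one_iff.2 ⟨Quotient.mk _ x₀, fun q => ?_⟩
    induction q using Quotient.ind
    exact Quotient.sound (exists_smul_eq G x₀ _)
  rw [hq, one_mul] at h
  rw [← h]
  refine sum_congr rfl fun g _ => ?_
  rw [Fintype.card_subtype]; rfl

variable (G Ω) in
/-- Number of orbits on ordered pairs. -/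
noncomputable def rank : ℕ := Nat.card (Quotient (orbitRel G (Ω × Ω)))

theorem sum_fx_sq [Fintype G] : ∑ g : G, π g * π g = rank G Ω * Fintype.card G := by
  classical
  have h := sum_card_fixedBy_eq_card_orbits_mul_card_group G (Ω × Ω)
  rw [rank, Nat.card_eq_fintype_card, ← h]
  refine sum_congr rfl fun g _ => ?_
  rw [Fintype.card_subtype, fx, ← card_product]
  congr 1
  ext ⟨x, y⟩
  simp [fixedBy, Prod.ext_iff]

theorem rank_eq_two [IsPretransitive G Ω] (h : Two G Ω) (h2 : 2 ≤ Fintype.card Ω) :
    rank G Ω = 2 := by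
  obtain ⟨a, b, hab⟩ := Fintype.exists_pair_of_one_lt_card h2
  rw [rank, Nat.card_eq_two_iff]
  refine ⟨Quotient.mk _ (a, a), Quotient.mk _ (a, b), fun e => ?_, ?_⟩
  · obtain ⟨g, hg⟩ := Quotient.exact e
    simp only [Prod.smul_mk, Prod.mk.injEq] at hg
    exact hab (MulAction.injective g (hg.1.trans hg.2.symm))
  · refine Set.eq_univ_of_forall fun q => ?_
    induction q using Quotient.ind with
    | _ p =>
      obtain ⟨x, y⟩ := p
      by_cases hxy : x = y
      · left
        obtain ⟨g, hg⟩ := exists_smul_eq G a x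
        exact Quotient.sound ⟨g, by simp [hg, ← hxy]⟩
      · right
        obtain ⟨g, h1, h2⟩ := h a b x y hab hxy
        exact Set.mem_singleton_iff.2 (Quotient.sound ⟨g, by simp [h1, h2]⟩)

theorem three_le_rank (h : ¬ Two G Ω) : 3 ≤ rank G Ω := by
  classical
  simp only [Two, not_forall, not_exists, not_and] at h
  obtain ⟨a, b, c, d, hab, hcd, hno⟩ := h
  let mk : Ω × Ω → Quotient (orbitRel G (Ω × Ω)) := Quotient.mk _
  have h1 : mk (a, a) ≠ mk (a, b) := fun e => by
    obtain ⟨g, hg⟩ := Quotient.exact e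
    simp only [Prod.smul_mk, Prod.mk.injEq] at hg
    exact hab (MulAction.injective g (hg.1.trans hg.2.symm))
  have h2 : mk (a, a) ≠ mk (c, d) := fun e => by
    obtain ⟨g, hg⟩ := Quotient.exact e
    simp only [Prod.smul_mk, Prod.mk.injEq] at hg
    exact hcd (MulAction.injective g (hg.1.trans hg.2.symm))
  have h3 : mk (c, d) ≠ mk (a, b) := fun e => by
    obtain ⟨g, hg⟩ := Quotient.exact e
    simp only [Prod.smul_mk, Prod.mk.injEq] at hg
    exact hno g hg.1 hg.2
  rw [rank, Nat.card_eq_fintype_card]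
  calc 3 = ({mk (a, a), mk (a, b), mk (c, d)} : Finset _).card :=
        (card_eq_three.2 ⟨_, _, _, h1, h2, h3.symm, rfl⟩).symm
    _ ≤ _ := card_le_univ _

/-- The basic identity for the derangement count. -/
theorem derangement_identity [Fintype G] [DecidableEq G] [IsPretransitive G Ω] [Nonempty Ω] :
    ((Fintype.card Ω * (univ.filter fun g : G => π g = 0).card : ℕ) : ℚ) =
      ((rank G Ω : ℚ) - 1) * Fintype.card G +
      ∑ g : G, (π g : ℚ) * ((π g : ℚ) - 1) * (((Fintype.card Ω : ℚ) - π g) / π g) := by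
  have h1 : (∑ g : G, (π g : ℚ)) = Fintype.card G := by exact_mod_cast sum_fx (G := G) (Ω := Ω)
  have h2 : (∑ g : G, (π g : ℚ) * π g) = rank G Ω * Fintype.card G := by
    exact_mod_cast sum_fx_sq (G := G) (Ω := Ω)
  have hp : ∀ g : G, (π g : ℚ) * ((π g : ℚ) - 1) * (((Fintype.card Ω : ℚ) - π g) / π g) =
      (if π g = 0 then (Fintype.card Ω : ℚ) else 0) - ((π g : ℚ) - 1) * ((π g : ℚ) - Fintype.card Ω) := by
    intro g
    by_cases h : π g = 0
    · simp [h]
    · have : (π g : ℚ) ≠ 0 := by exact_mod_cast h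
      rw [if_neg h]; field_simp; ring
  rw [sum_congr rfl fun g _ => hp g, sum_sub_distrib, ← sum_filter, sum_const, nsmul_eq_mul]
  have h3 : ∑ g : G, ((π g : ℚ) - 1) * ((π g : ℚ) - Fintype.card Ω) =
      rank G Ω * Fintype.card G - Fintype.card G := by
    have : ∀ g : G, ((π g : ℚ) - 1) * ((π g : ℚ) - Fintype.card Ω) =
        (π g : ℚ) * π g - ((Fintype.card Ω : ℚ) + 1) * π g + Fintype.card Ω := fun g => by ring
    rw [sum_congr rfl fun g _ => this g, sum_add_distrib, sum_sub_distrib, ← mul_sum, h1, h2,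
      sum_const, nsmul_eq_mul, card_univ]
    ring
  rw [h3]; push_cast; ring

/-- Summing a class function of the fixity over the group through the pairs of fixed points. -/
theorem sum_pairs [Fintype G] [DecidableEq G] (h : Two G Ω) {a b : Ω} (hab : a ≠ b)
    [Fintype (pst G a b)] (φ : ℕ → ℚ) :
    ∑ g : G, (π g : ℚ) * ((π g : ℚ) - 1) * φ (π g) =
      (Fintype.card Ω : ℚ) * ((Fintype.card Ω : ℚ) - 1) * ∑ k : pst G a b, φ (π (k : G)) := by
  have e1 : ∀ g : G, (π g : ℚ) * ((π g : ℚ) - 1) * φ (π g) =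
      ∑ p ∈ (univ : Finset Ω).offDiag, if g • p.1 = p.1 ∧ g • p.2 = p.2 then φ (π g) else 0 := by
    intro g
    rw [← sum_filter, sum_const, nsmul_eq_mul]
    congr 1
    have e : ((univ : Finset Ω).offDiag.filter fun p => g • p.1 = p.1 ∧ g • p.2 = p.2) =
        (univ.filter fun x : Ω => g • x = x).offDiag := by
      ext ⟨x, y⟩; simp [and_comm, and_left_comm]
    rw [e, offDiag_card]
    have : π g ≤ π g * π g := Nat.le_mul_self _
    rw [← fx, Nat.cast_sub this]; push_cast; ring
  rw [sum_congr rfl fun g _ => e1 g, sum_comm]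
  have e2 : ∀ p ∈ (univ : Finset Ω).offDiag,
      (∑ g : G, if g • p.1 = p.1 ∧ g • p.2 = p.2 then φ (π g) else 0) =
        ∑ k : pst G a b, φ (π (k : G)) := by
    intro p hp
    simp only [mem_offDiag, mem_univ, true_and] at hp
    obtain ⟨g, h1, h2⟩ := h a b p.1 p.2 hab hp
    rw [← sum_filter]
    symm
    refine sum_bij (fun k _ => g * (k : G) * g⁻¹) ?_ ?_ ?_ ?_
    · intro k _
      have := (conj_mem_pst g).1 k.2
      rw [h1, h2, mem_pst] at this
      simpa using this
    · intro k _ l _ e; exact Subtype.ext (by simpa using e)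
    · intro x hx
      simp only [mem_filter, mem_univ, true_and] at hx
      refine ⟨⟨g⁻¹ * x * g, ?_⟩, mem_univ _, by group⟩
      rw [conj_mem_pst g, h1, h2, mem_pst]
      simpa [mul_assoc] using hx
    · intro k _; rw [fx_conj]
  rw [sum_congr rfl e2, sum_const, nsmul_eq_mul, offDiag_card, card_univ]
  rw [Nat.cast_sub (Nat.le_mul_self _)]; push_cast; ring

end Cfsg.Agent.Derange12
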