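import Cfsg.Agent.Derange12.Design

/-! Orbits of a two-point stabilizer and the averaged inequality. -/

set_option autoImplicit false
set_option linter.unusedSectionVars false

namespace Cfsg.Agent.Derange12

open MulAction Finset

variable {G Ω : Type*} [Group G] [MulAction G Ω] [Fintype Ω] [DecidableEq Ω]
variable (H : Subgroup G) [Fintype H]

/-- The orbit of a point under a subgroup. -/
def orb (x : Ω) : Finset Ω := univ.image fun k : H => (k : G) • x

theorem mem_orb {x y : Ω} : y ∈ orb H x ↔ ∃ k ∈ H, k • x = y := by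
  simp [orb, Subtype.exists]

theorem mem_orb_self (x : Ω) : x ∈ orb H x := (mem_orb H).2 ⟨1, H.one_mem, one_smul G x⟩

theorem orb_pos (x : Ω) : 0 < (orb H x).card := card_pos.2 ⟨x, mem_orb_self H x⟩

theorem orb_eq {x y : Ω} (hy : y ∈ orb H x) : orb H y = orb H x := by
  obtain ⟨k, hk, rfl⟩ := (mem_orb H).1 hy
  ext z
  simp only [mem_orb, smul_smul]
  constructor
  · rintro ⟨l, hl, rfl⟩; exact ⟨l * k, H.mul_mem hl hk, rfl⟩
  · rintro ⟨l, hl, rfl⟩; exact ⟨l * k⁻¹, H.mul_mem hl (H.inv_mem hk), by simp [mul_assoc]⟩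

theorem orb_mul_stab (x : Ω) :
    (orb H x).card * (univ.filter fun k : H => (k : G) • x = x).card = Fintype.card H := by
  classical
  rw [← card_univ (α := H), card_eq_sum_card_image (fun k : H => (k : G) • x) univ,
    ← smul_eq_mul, ← sum_const]
  refine sum_congr rfl fun y hy => ?_
  obtain ⟨k, hk, rfl⟩ := (mem_orb H).1 hy
  refine card_bij (fun l _ => (⟨k, hk⟩ : H) * l) ?_ ?_ ?_
  · intro l hl; simp only [mem_filter, mem_univ, true_and] at hl ⊢
    simp [mul_smul, hl]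
  · intro l _ l' _ e; exact mul_left_cancel e
  · intro l hl; simp only [mem_filter, mem_univ, true_and] at hl ⊢
    exact ⟨(⟨k, hk⟩ : H)⁻¹ * l, by simp [mul_smul, hl], by simp⟩

local notation "π" => fx (Ω := Ω)

theorem sum_fx_eq : (∑ k : H, (π (k : G) : ℚ)) =
    (∑ x : Ω, ((orb H x).card : ℚ)⁻¹) * Fintype.card H := by
  classical
  have h1 : (∑ k : H, π (k : G)) = ∑ x : Ω, (univ.filter fun k : H => (k : G) • x = x).card := by
    simp only [fx]
    exact sum_card_bipartiteAbove_eq_sum_card_bipartiteBelow (fun (k : H) (x : Ω) => (k : G) • x = x)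
  rw [sum_mul, ← Nat.cast_sum, h1, Nat.cast_sum]
  refine sum_congr rfl fun x _ => ?_
  have h2 : ((orb H x).card : ℚ) * (univ.filter fun k : H => (k : G) • x = x).card =
      Fintype.card H := by exact_mod_cast orb_mul_stab H x
  have := orb_pos H x
  rw [← h2]; field_simp

theorem exists_nat_orbits : ∃ r : ℕ, (∑ x : Ω, ((orb H x).card : ℚ)⁻¹) = r := by
  classical
  refine ⟨Fintype.card (Quotient (orbitRel H Ω)), ?_⟩
  have hm : (Fintype.card H : ℚ) ≠ 0 := by exact_mod_cast Fintype.card_ne_zero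
  refine mul_right_cancel₀ hm ?_
  rw [← sum_fx_eq, ← Nat.cast_sum, ← Nat.cast_mul, Nat.cast_inj,
    ← sum_card_fixedBy_eq_card_orbits_mul_card_group H Ω]
  refine sum_congr rfl fun k _ => ?_
  rw [Fintype.card_subtype]; rfl

/-- The excess `2·(number of orbits) − n`. -/
noncomputable def dd : ℚ := 2 * (∑ x : Ω, ((orb H x).card : ℚ)⁻¹) - Fintype.card Ω

theorem two_mul_sum_fx : 2 * (∑ k : H, (π (k : G) : ℚ)) =
    ((Fintype.card Ω : ℚ) + dd (Ω := Ω) H) * Fintype.card H := by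
  rw [sum_fx_eq, dd]; ring

/-- The inequality wanted for the two-point stabilizer. -/
def Good : Prop :=
  2 * (Fintype.card H : ℚ) ≤ ∑ k : H, (Fintype.card Ω : ℚ) / π (k : G)

theorem good_of_dd [DecidableEq H] (h2 : ∀ k : H, 2 ≤ π (k : G)) (hm : 2 ≤ Fintype.card H)
    (hd : dd (Ω := Ω) H * (2 * Fintype.card H - 1) ≤ Fintype.card Ω) : Good (Ω := Ω) H := by
  have hsum := two_mul_sum_fx (Ω := Ω) H
  have hone : ((π ((1 : H) : G) : ℕ) : ℚ) = Fintype.card Ω := by simp [fx_one]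
  set n : ℚ := (Fintype.card Ω : ℚ) with hn
  set m : ℚ := (Fintype.card H : ℚ) with hmdef
  set P := ∑ k ∈ (univ : Finset H).erase 1, (π (k : G) : ℚ) with hP
  have hn2 : (2 : ℚ) ≤ n := by
    have : (2 : ℚ) ≤ π ((1 : H) : G) := by exact_mod_cast h2 1
    linarith
  have hm2 : (2 : ℚ) ≤ m := by rw [hmdef]; exact_mod_cast hm
  rw [← add_sum_erase _ _ (mem_univ (1 : H)), hone, ← hP] at hsum
  have hcard : (((univ : Finset H).erase 1).card : ℚ) = m - 1 := by
    rw [card_erase_of_mem (mem_univ 1), card_univ, Nat.cast_sub (by omega)]; simp [hmdef]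
  have hPpos : 0 < P := by
    refine sum_pos (fun k _ => ?_) ?_
    · have : (2 : ℚ) ≤ π (k : G) := by exact_mod_cast h2 k
      linarith
    · rw [← card_pos, card_erase_of_mem (mem_univ 1), card_univ]; omega
  have hsed := sq_sum_div_le_sum_sq_div ((univ : Finset H).erase 1) (fun _ => (1 : ℚ))
    (g := fun k : H => (π (k : G) : ℚ)) (fun k _ => by
      have := h2 k; show (0:ℚ) < _; exact_mod_cast (by omega : 0 < π (k : G)))
  rw [sum_const, nsmul_eq_mul, mul_one, hcard, ← hP] at hsed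
  have key : 2 * m - 1 ≤ n * ((m - 1) ^ 2 / P) := by
    rw [mul_div_assoc', le_div_iff₀ hPpos]
    nlinarith [hsum, hd, mul_nonneg (by linarith : (0:ℚ) ≤ m) (by linarith : (0:ℚ) ≤ n)]
  unfold Good
  rw [← add_sum_erase _ _ (mem_univ (1 : H)), hone, div_self (by linarith)]
  have e : ∑ k ∈ (univ : Finset H).erase 1, n / (π (k : G) : ℚ) =
      n * ∑ k ∈ (univ : Finset H).erase 1, (1 : ℚ) ^ 2 / (π (k : G) : ℚ) := by
    rw [mul_sum]; exact sum_congr rfl fun k _ => by ring
  rw [e]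
  have := mul_le_mul_of_nonneg_left hsed (by linarith : (0 : ℚ) ≤ n)
  linarith

/-- Pointwise bound on the nonidentity elements. -/
theorem good_of_bound [DecidableEq H] {c : ℚ} (hn : 0 < Fintype.card Ω)
    (hc : ∀ k : H, k ≠ 1 → c ≤ (Fintype.card Ω : ℚ) / π (k : G))
    (h : 2 * (Fintype.card H : ℚ) ≤ 1 + ((Fintype.card H : ℚ) - 1) * c) : Good (Ω := Ω) H := by
  unfold Good
  rw [← add_sum_erase _ _ (mem_univ (1 : H)), OneMemClass.coe_one, fx_one,
    div_self (by exact_mod_cast hn.ne')]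
  have h1 : ∑ _k ∈ (univ : Finset H).erase 1, c ≤
      ∑ k ∈ (univ : Finset H).erase 1, (Fintype.card Ω : ℚ) / π (k : G) :=
    sum_le_sum fun k hk => hc k (ne_of_mem_erase hk)
  rw [sum_const, nsmul_eq_mul, card_erase_of_mem (mem_univ 1), card_univ,
    Nat.cast_sub (by have := Fintype.card_pos (α := H); omega)] at h1
  push_cast at h1
  linarith

/-- Lower bound for `n − 2·(orbits)` from a set of points. -/
theorem dd_le {D : Finset Ω} (hD : ∀ x ∉ D, 2 ≤ (orb H x).card) :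
    dd (Ω := Ω) H ≤ ∑ x ∈ D, (2 * ((orb H x).card : ℚ)⁻¹ - 1) := by
  have e : dd (Ω := Ω) H = ∑ x : Ω, (2 * ((orb H x).card : ℚ)⁻¹ - 1) := by
    rw [dd, sum_sub_distrib, mul_sum]; simp
  rw [e, ← sum_add_sum_compl D]
  have : ∑ x ∈ Dᶜ, (2 * ((orb H x).card : ℚ)⁻¹ - 1) ≤ 0 := by
    refine sum_nonpos fun x hx => ?_
    have h2 : (2 : ℚ) ≤ (orb H x).card := by exact_mod_cast hD x (mem_compl.1 hx)
    rw [sub_nonpos, ← div_eq_mul_inv, div_le_one (by linarith)]; exact h2
  linarith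

theorem sum_orb (x : Ω) :
    ∑ y ∈ orb H x, (2 * ((orb H y).card : ℚ)⁻¹ - 1) = 2 - ((orb H x).card : ℚ) := by
  rw [sum_congr rfl fun y hy => by rw [orb_eq H hy], sum_const, nsmul_eq_mul]
  have : ((orb H x).card : ℚ) ≠ 0 := by exact_mod_cast (orb_pos H x).ne'
  field_simp

end Cfsg.Agent.Derange12
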