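import Cfsg.Agent.Derange12.Basic

/-! Lines of a two-transitive group: fixed sets of two-point stabilizers. -/

set_option autoImplicit false
set_option linter.unusedSectionVars false

namespace Cfsg.Agent.Derange12

open MulAction Finset

variable {G Ω : Type*} [Group G] [MulAction G Ω] [Fintype G] [Fintype Ω] [DecidableEq Ω]

variable (G) in
/-- The line through two points. -/
noncomputable def line (a b : Ω) : Finset Ω := by
  classical
  exact univ.filter fun x => ∀ k ∈ pst G a b, k • x = x

theorem mem_line {a b x : Ω} : x ∈ line G a b ↔ ∀ k ∈ pst G a b, k • x = x := by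
  classical
  simp [line]

theorem left_mem_line (a b : Ω) : a ∈ line G a b := mem_line.2 fun _ hk => (mem_pst.1 hk).1

theorem right_mem_line (a b : Ω) : b ∈ line G a b := mem_line.2 fun _ hk => (mem_pst.1 hk).2

theorem card_pst (h : Two G Ω) {a b c d : Ω} (hab : a ≠ b) (hcd : c ≠ d) :
    Nat.card (pst G c d) = Nat.card (pst G a b) := by
  obtain ⟨g, rfl, rfl⟩ := h a b c d hab hcd
  exact (Nat.card_congr
    ((MulAut.conj g).toEquiv.subtypeEquiv fun k => conj_mem_pst g)).symm

theorem pst_eq (h : Two G Ω) {a b x y : Ω} (hab : a ≠ b) (hxy : x ≠ y)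
    (hx : x ∈ line G a b) (hy : y ∈ line G a b) : pst G x y = pst G a b :=
  (Subgroup.eq_of_le_of_card_ge
    (fun k hk => mem_pst.2 ⟨mem_line.1 hx k hk, mem_line.1 hy k hk⟩)
    (card_pst h hab hxy).le).symm

theorem line_eq (h : Two G Ω) {a b x y : Ω} (hab : a ≠ b) (hxy : x ≠ y)
    (hx : x ∈ line G a b) (hy : y ∈ line G a b) : line G x y = line G a b := by
  ext z; rw [mem_line, mem_line, pst_eq h hab hxy hx hy]

theorem card_line (h : Two G Ω) {a b c d : Ω} (hab : a ≠ b) (hcd : c ≠ d) :
    (line G c d).card = (line G a b).card := by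
  obtain ⟨g, rfl, rfl⟩ := h a b c d hab hcd
  refine (card_bij (fun x _ => g • x) ?_ ?_ ?_).symm
  · intro x hx
    refine mem_line.2 fun k hk => ?_
    have := (conj_mem_pst (g := g) (k := g⁻¹ * k * g) (a := a) (b := b)).2
      (by simpa [mul_assoc] using hk)
    have := mem_line.1 hx _ this
    rw [mul_smul, mul_smul, inv_smul_eq_iff] at this
    exact this
  · intro x _ y _ e; exact MulAction.injective g e
  · intro y hy
    refine ⟨g⁻¹ • y, mem_line.2 fun k hk => ?_, smul_inv_smul g y⟩
    have := mem_line.1 hy _ ((conj_mem_pst g).1 hk)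
    rw [mul_smul, mul_smul] at this
    conv_rhs => rw [← this, inv_smul_smul]

/-- The fixed set of a nonidentity element is a proper subspace of the line system. -/
theorem fx_mul_le [FaithfulSMul G Ω] (h : Two G Ω) {a b : Ω} (hab : a ≠ b) {g : G} (hg : g ≠ 1) :
    fx (Ω := Ω) g * ((line G a b).card - 1) + 1 ≤ Fintype.card Ω := by
  classical
  obtain ⟨o, ho⟩ : ∃ o : Ω, g • o ≠ o := by
    by_contra hc; push Not at hc
    exact hg (eq_of_smul_eq_smul fun x : Ω => by rw [hc x, one_smul])
  set X := univ.filter fun x : Ω => g • x = x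
  have hne : ∀ y ∈ X, o ≠ y := fun y hy e => ho (e ▸ (mem_filter.1 hy).2)
  have hdis : Set.PairwiseDisjoint (X : Set Ω) fun y => (line G o y).erase o := by
    intro y hy y' hy' hyy'
    rw [Function.onFun, Finset.disjoint_left]
    intro z hz hz'
    rw [mem_erase] at hz hz'
    have hoy := hne y hy
    have hoy' := hne y' hy'
    have e1 : line G o z = line G o y := line_eq h hoy hz.1.symm (left_mem_line o y) hz.2
    have e2 : line G o z = line G o y' := line_eq h hoy' hz.1.symm (left_mem_line o y') hz'.2
    have hy'_mem : y' ∈ line G o y := by rw [← e1, e2]; exact right_mem_line o y'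
    have e3 : line G y y' = line G o y := line_eq h hoy hyy' (right_mem_line o y) hy'_mem
    have : o ∈ line G y y' := e3 ▸ left_mem_line o y
    exact ho (mem_line.1 this g (mem_pst.2 ⟨(mem_filter.1 hy).2, (mem_filter.1 hy').2⟩))
  have hsub : X.biUnion (fun y => (line G o y).erase o) ⊆ univ.erase o := by
    intro z hz
    simp only [mem_biUnion, mem_erase] at hz
    obtain ⟨y, _, hz1, _⟩ := hz
    simp [hz1]
  have hc := card_le_card hsub
  rw [card_biUnion hdis, card_erase_of_mem (mem_univ o), card_univ] at hc
  rw [sum_congr rfl fun y hy => by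
    rw [card_erase_of_mem (left_mem_line o y), card_line h hab (hne y hy)], sum_const,
    smul_eq_mul] at hc
  have : 0 < Fintype.card Ω := Fintype.card_pos_iff.2 ⟨o⟩
  change X.card * _ + 1 ≤ _
  omega

end Cfsg.Agent.Derange12
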