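import Cfsg.Agent.Derange12.Three

/-! Lines with three points. -/

set_option autoImplicit false
set_option linter.unusedSectionVars false

namespace Cfsg.Agent.Derange12

open MulAction Finset

variable {G Ω : Type*} [Group G] [MulAction G Ω] [Fintype G] [Fintype Ω] [DecidableEq Ω]

local notation "π" => fx (Ω := Ω)

/-- The third point of the line through a swapped pair is fixed. -/
theorem third_mem (h : Two G Ω) {a b : Ω} (hab : a ≠ b) (hf : (line G a b).card = 3)
    {p q : Ω} (hA : AllTwo G p q) {x : Ω} {k : G} (hk : k ∈ pst G p q) (hx : k • x ≠ x)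
    {z : Ω} (hz : z ∈ line G x (k • x)) (hz1 : z ≠ x) (hz2 : z ≠ k • x) : z ∈ line G p q := by
  have hL : ∀ w ∈ line G x (k • x), w = x ∨ w = k • x ∨ w = z := by
    have : line G x (k • x) = {x, k • x, z} := (eq_of_subset_of_card_le
      (by intro w hw; simp at hw; rcases hw with rfl | rfl | rfl
          exacts [left_mem_line _ _, right_mem_line _ _, hz])
      (by rw [card_line h hab hx.symm, hf, card_eq_three.2 ⟨_, _, _, hx.symm, hz1.symm, hz2.symm, rfl⟩])).symm
    intro w hw; rw [this] at hw; simpa using hw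
  have hmem : ∀ l ∈ pst G p q, l • x = x ∨ l • x = k • x := fun l hl =>
    or_iff_not_imp_left.2 fun h1 => hA x l hl k hk h1 hx
  refine mem_line.2 fun l hl => ?_
  have h1 := hmem l hl
  have h2 : l • k • x = x ∨ l • k • x = k • x := by
    rw [← mul_smul]; exact hmem _ ((pst G p q).mul_mem hl hk)
  have hne : l • x ≠ l • k • x := fun e => hx (MulAction.injective l e).symm
  have hm1 : l • x ∈ line G x (k • x) := by
    rcases h1 with e | e <;> rw [e]
    exacts [left_mem_line _ _, right_mem_line _ _]
  have hm2 : l • k • x ∈ line G x (k • x) := by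
    rcases h2 with e | e <;> rw [e]
    exacts [left_mem_line _ _, right_mem_line _ _]
  have hlz : l • z ∈ line G x (k • x) :=
    line_eq h hx.symm hne hm1 hm2 ▸ smul_mem_line l hz
  have hz1' : l • z ≠ l • x := fun e => hz1 (MulAction.injective l e)
  have hz2' : l • z ≠ l • k • x := fun e => hz2 (MulAction.injective l e)
  rcases hL _ hlz with e | e | e
  · rcases h1 with e1 | e1
    · exact absurd (e.trans e1.symm) hz1'
    · rcases h2 with e2 | e2
      · exact absurd (e.trans e2.symm) hz2'
      · exact absurd (e1.trans e2.symm) hne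
  · rcases h1 with e1 | e1
    · rcases h2 with e2 | e2
      · exact absurd (e1.trans e2.symm) hne
      · exact absurd (e.trans e2.symm) hz2'
    · exact absurd (e.trans e1.symm) hz1'
  · exact e

theorem fx_eq_three [FaithfulSMul G Ω] (h : Two G Ω) {a b : Ω} (hab : a ≠ b)
    [Fintype (pst G a b)] (hf : (line G a b).card = 3)
    (hall : ∀ x : Ω, (orb (pst G a b) x).card ≤ 2) {g : G} (hg : g ∈ pst G a b) (hg1 : g ≠ 1) :
    π g = 3 := by
  classical
  have hA : ∀ p q : Ω, p ≠ q → AllTwo G p q := fun p q hpq =>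
    allTwo_transport h hab hpq (allTwo_of_le hall)
  have hsub : line G a b ⊆ univ.filter fun x : Ω => g • x = x := fun x hx => by
    simpa using mem_line.1 hx g hg
  refine le_antisymm ?_ (hf ▸ card_le_card hsub)
  by_contra hlt
  push Not at hlt
  obtain ⟨c, hc, hc'⟩ : ∃ c, c ∈ univ.filter (fun x : Ω => g • x = x) ∧ c ∉ line G a b := by
    by_contra hh; push Not at hh
    have := card_le_card (show univ.filter (fun x : Ω => g • x = x) ⊆ line G a b from hh)
    rw [fx] at hlt; omega
  simp only [mem_filter, mem_univ, true_and] at hc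
  have hac : a ≠ c := fun e => hc' (e ▸ left_mem_line a b)
  have hbc : b ≠ c := fun e => hc' (e ▸ right_mem_line a b)
  obtain ⟨x, hx⟩ : ∃ x : Ω, g • x ≠ x := by
    by_contra hh; push Not at hh
    exact hg1 (eq_of_smul_eq_smul fun x : Ω => by rw [hh x, one_smul])
  obtain ⟨z, hz, hz1, hz2⟩ : ∃ z ∈ line G x (g • x), z ≠ x ∧ z ≠ g • x := by
    by_contra hh; push Not at hh
    have := card_le_card (show line G x (g • x) ⊆ {x, g • x} from fun w hw => by
      simp only [mem_insert, mem_singleton]; exact or_iff_not_imp_left.2 (hh w hw))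
    rw [card_line h hab hx.symm, hf, card_pair hx.symm] at this
    omega
  obtain ⟨ga, gb⟩ := mem_pst.1 hg
  have z1 := third_mem h hab hf (hA a b hab) hg hx hz hz1 hz2
  have z2 := third_mem h hab hf (hA a c hac) (mem_pst.2 ⟨ga, hc⟩) hx hz hz1 hz2
  have z3 := third_mem h hab hf (hA b c hbc) (mem_pst.2 ⟨gb, hc⟩) hx hz hz1 hz2
  have hza : z = a := by
    by_contra hne
    have e1 := line_eq h hab (Ne.symm hne) (left_mem_line a b) z1
    have e2 := line_eq h hac (Ne.symm hne) (left_mem_line a c) z2
    exact hc' (by rw [← e1, e2]; exact right_mem_line a c)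
  have hzb : z = b := by
    by_contra hne
    have e1 := line_eq h hab (Ne.symm hne) (right_mem_line a b) z1
    have e2 := line_eq h hbc (Ne.symm hne) (left_mem_line b c) z3
    exact hc' (by rw [← e1, e2]; exact right_mem_line b c)
  exact hab (hza.symm.trans hzb)

/-- Degree seven admits no two-point stabilizer of order two. -/
theorem no_seven [FaithfulSMul G Ω] (h : Two G Ω) (hn : Fintype.card Ω = 7) {a b : Ω} (hab : a ≠ b)
    (hG : Nat.card G = 84) (hm : Nat.card (pst G a b) = 2) : False := by
  classical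
  haveI : Fact (Nat.Prime 7) := ⟨by norm_num⟩
  obtain ⟨P⟩ : Nonempty (Sylow 7 G) := inferInstance
  have hidx : (P : Subgroup G).index = 12 ∧ Nat.card P = 7 := by
    have hc : Nat.card P = 7 := by
      rw [P.card_eq_multiplicity, hG]
      have : Nat.factorization 84 7 = 1 := by
        rw [show (84 : ℕ) = 7 * 12 by norm_num, Nat.factorization_mul (by norm_num) (by norm_num),
          Finsupp.add_apply, Nat.Prime.factorization_self (by norm_num),
          Nat.factorization_eq_zero_of_not_dvd (by norm_num)]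
      rw [this, pow_one]
    refine ⟨?_, hc⟩
    have := (P : Subgroup G).card_mul_index
    rw [hG] at this
    rw [show Nat.card (P : Subgroup G) = 7 from hc] at this
    omega
  have hns : Nat.card (Sylow 7 G) = 1 := by
    have h1 := card_sylow_modEq_one 7 G
    have h2 : Nat.card (Sylow 7 G) ∣ 12 := hidx.1 ▸ P.card_dvd_index
    have h3 := Nat.le_of_dvd (by norm_num) h2
    have h4 : Nat.card (Sylow 7 G) ≠ 8 := fun e => by rw [e] at h2; omega
    rw [Nat.ModEq] at h1
    omega
  haveI : Subsingleton (Sylow 7 G) := (Nat.card_eq_one_iff_unique.1 hns).1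
  haveI := Sylow.normal_of_subsingleton P
  -- the Sylow subgroup is semiregular, hence regular
  have hcyc : ∀ r ∈ (P : Subgroup G), r ≠ 1 → Subgroup.zpowers r = (P : Subgroup G) := by
    intro r hr hr1
    refine Subgroup.eq_of_le_of_card_ge (Subgroup.zpowers_le.2 hr) ?_
    rw [Nat.card_zpowers]
    have hd := Subgroup.orderOf_dvd_natCard (P : Subgroup G) hr
    rw [show Nat.card (P : Subgroup G) = 7 from hidx.2] at hd
    rcases (Nat.dvd_prime (by norm_num)).1 hd with e | e
    · exact absurd (orderOf_eq_one_iff.1 e) hr1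
    · rw [e, show Nat.card (P : Subgroup G) = 7 from hidx.2]
  have hsemi : ∀ r ∈ (P : Subgroup G), ∀ x : Ω, r • x = x → r = 1 := by
    intro r hr x hx
    by_contra hr1
    refine hr1 (eq_of_smul_eq_smul fun y : Ω => ?_)
    obtain ⟨u, rfl⟩ : ∃ u : G, u • x = y := by
      by_cases hxy : x = y
      · exact ⟨1, by simp [hxy]⟩
      · obtain ⟨u, hu, -⟩ := h x y y x hxy (Ne.symm hxy); exact ⟨u, hu⟩
    rw [one_smul]
    have hr' : u⁻¹ * r * u ∈ (P : Subgroup G) := by
      simpa using Subgroup.Normal.conj_mem ‹_› r hr u⁻¹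
    rw [← hcyc r hr hr1] at hr'
    obtain ⟨j, hj⟩ := Subgroup.mem_zpowers_iff.1 hr'
    have h5 : (r ^ j) • x = x := (stabilizer G x).zpow_mem (mem_stabilizer_iff.2 hx) j
    rw [hj, mul_smul, mul_smul, inv_smul_eq_iff] at h5
    exact h5
  have hreg : ∀ x : Ω, ∃ r ∈ (P : Subgroup G), r • a = x := by
    intro x
    let φ : ↥(P : Subgroup G) → Ω := fun r => (r : G) • a
    have hb : Function.Bijective φ := by
      refine (Fintype.bijective_iff_injective_and_card φ).2 ⟨fun r s e => ?_, ?_⟩
      · have := hsemi _ ((P : Subgroup G).mul_mem ((P : Subgroup G).inv_mem r.2) s.2) a (by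
          change (r : G) • a = (s : G) • a at e
          rw [mul_smul, ← e, inv_smul_smul])
        exact Subtype.ext (inv_mul_eq_one.1 this)
      · rw [hn, ← Nat.card_eq_fintype_card]; exact hidx.2
    obtain ⟨r, hr⟩ := hb.2 x
    exact ⟨r, r.2, hr⟩
  obtain ⟨r, hr, hrb⟩ := hreg b
  have hr1 : r ≠ 1 := fun e => hab (by rw [← hrb, e, one_smul])
  have hbot : pst G a b = ⊥ := by
    rw [Subgroup.eq_bot_iff_forall]
    intro g hg
    obtain ⟨ga, gb⟩ := mem_pst.1 hg
    have hga : g⁻¹ • a = a := inv_smul_eq_iff.2 ga.symm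
    have hcomm : g * r * g⁻¹ = r := by
      have h1 : r⁻¹ * (g * r * g⁻¹) = 1 := hsemi _
        ((P : Subgroup G).mul_mem ((P : Subgroup G).inv_mem hr) (Subgroup.Normal.conj_mem ‹_› r hr g)) a
        (by rw [mul_smul, mul_smul, mul_smul, hga, hrb, gb, ← hrb, inv_smul_smul])
      exact (inv_mul_eq_one.1 h1).symm
    refine eq_of_smul_eq_smul fun x : Ω => ?_
    obtain ⟨s, hs, rfl⟩ := hreg x
    rw [← hcyc r hr hr1] at hs
    obtain ⟨j, rfl⟩ := Subgroup.mem_zpowers_iff.1 hs
    have : g * r ^ j * g⁻¹ = r ^ j := by rw [← conj_zpow, hcomm]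
    calc g • r ^ j • a = (g * r ^ j * g⁻¹) • g • a := by simp [mul_smul]
      _ = _ := by rw [this, ga, one_smul]
  rw [hbot, Subgroup.card_bot] at hm
  omega

end Cfsg.Agent.Derange12
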