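import Cfsg.Agent.Derange12.Three
import Mathlib.GroupTheory.Transfer

/-! Two-point stabilizers fixing exactly two points. -/

set_option autoImplicit false
set_option linter.unusedSectionVars false

namespace Cfsg.Agent.Derange12

open MulAction Finset

variable {G Ω : Type*} [Group G] [MulAction G Ω] [Fintype G] [Fintype Ω] [DecidableEq Ω]

local notation "π" => fx (Ω := Ω)

theorem no_single_three [FaithfulSMul G Ω] (h : Two G Ω) (hn : 7 ≤ Fintype.card Ω) {a b : Ω}
    (hab : a ≠ b) [Fintype (pst G a b)] {x₀ : Ω} (h3 : (orb (pst G a b) x₀).card = 3)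
    (hrest : ∀ y ∉ orb (pst G a b) x₀, (orb (pst G a b) y).card ≤ 2) : False := by
  obtain ⟨k, hk, hk3, -, hmk⟩ := exists_three h3 hrest
  have hkT : IsThree Ω k := ⟨hk3, by rw [hmk, h3]⟩
  have hnot : ∀ {p q : Ω} {u : G}, u ∈ pst G p q →
      p ∉ moved (Ω := Ω) u ∧ q ∉ moved (Ω := Ω) u := by
    intro p q u hu
    simp [moved, (mem_pst.1 hu).1, (mem_pst.1 hu).2]
  have hex : ∀ p q : Ω, p ≠ q → ∃ u ∈ pst G p q, IsThree Ω u := by
    intro p q hpq
    obtain ⟨g, h1, h2⟩ := h a b p q hab hpq
    exact ⟨g * k * g⁻¹, by simpa [h1, h2] using (conj_mem_pst g).1 hk, isThree_conj hkT⟩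
  have huniq : ∀ u v : G, IsThree Ω u → IsThree Ω v → moved (Ω := Ω) u ≠ moved v →
      Fintype.card Ω ≤ (moved (Ω := Ω) u ∪ moved v).card + 1 := by
    intro u v hu hv hne
    by_contra hlt
    have : 1 < ((moved (Ω := Ω) u ∪ moved v)ᶜ).card := by rw [card_compl]; omega
    obtain ⟨p, hp, q, hq, hpq⟩ := one_lt_card.1 this
    simp only [moved, mem_compl, mem_union, mem_filter, mem_univ, true_and, not_or, not_not] at hp hq
    exact hne (three_unique h hab h3 hrest hpq (mem_pst.2 ⟨hp.1, hq.1⟩) (mem_pst.2 ⟨hp.2, hq.2⟩) hu hv)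
  obtain ⟨c, hc⟩ : ∃ c, c ∈ moved (Ω := Ω) k := by
    rw [hmk]; exact ⟨x₀, mem_orb_self _ _⟩
  obtain ⟨ha, hb⟩ := hnot hk
  have hac : a ≠ c := fun e => ha (e ▸ hc)
  have hbc : b ≠ c := fun e => hb (e ▸ hc)
  obtain ⟨u, hu, huT⟩ := hex a c hac
  obtain ⟨v, hv, hvT⟩ := hex b c hbc
  obtain ⟨hua, huc⟩ := hnot hu
  obtain ⟨hvb, hvc⟩ := hnot hv
  set O := moved (Ω := Ω) k
  set U := moved (Ω := Ω) u
  set V := moved (Ω := Ω) v
  have hOU : O ≠ U := fun e => huc (e ▸ hc)
  have hOV : O ≠ V := fun e => hvc (e ▸ hc)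
  have cO : O.card = 3 := hkT.2
  have cU : U.card = 3 := huT.2
  have cV : V.card = 3 := hvT.2
  have u1 : Fintype.card Ω ≤ (O ∪ U).card + 1 := huniq k u hkT huT hOU
  have u2 : Fintype.card Ω ≤ (O ∪ V).card + 1 := huniq k v hkT hvT hOV
  have lU := card_union_le O U
  have lV := card_union_le O V
  have eU : U ∪ O = univ.erase a := eq_of_subset_of_card_le
    (fun x hx => mem_erase.2 ⟨fun e => by subst e; simp at hx; rcases hx with h | h <;> contradiction,
      mem_univ _⟩)
    (by rw [card_erase_of_mem (mem_univ a), card_univ, union_comm]; omega)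
  have eV : V ∪ O = univ.erase b := eq_of_subset_of_card_le
    (fun x hx => mem_erase.2 ⟨fun e => by subst e; simp at hx; rcases hx with h | h <;> contradiction,
      mem_univ _⟩)
    (by rw [card_erase_of_mem (mem_univ b), card_univ, union_comm]; omega)
  have hbU : b ∈ U := by
    have : b ∈ U ∪ O := by rw [eU]; simp [hab.symm]
    simpa [hb] using this
  have hUV : U ≠ V := fun e => hvb (e ▸ hbU)
  have u3 : Fintype.card Ω ≤ (U ∪ V).card + 1 := huniq u v huT hvT hUV
  have hsub : U ∪ V ⊆ Oᶜ := by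
    have d1 : Disjoint O U := by rw [← card_union_eq_card_add_card]; omega
    have d2 : Disjoint O V := by rw [← card_union_eq_card_add_card]; omega
    intro x hx
    rw [mem_compl]
    intro hxO
    rcases mem_union.1 hx with h | h
    · exact Finset.disjoint_left.1 d1 hxO h
    · exact Finset.disjoint_left.1 d2 hxO h
  have := card_le_card hsub
  rw [card_compl, cO] at this
  omega

/-- Burnside transfer bounds the fixity when all orbits of the two-point stabilizer are short. -/
theorem fx_bound_two [FaithfulSMul G Ω] (h : Two G Ω) {a b : Ω} (hab : a ≠ b)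
    [Fintype (pst G a b)] (hf : (line G a b).card = 2)
    (hall : ∀ x : Ω, (orb (pst G a b) x).card ≤ 2) :
    (∃ k : ℕ, Fintype.card (pst G a b) = 2 ^ k) ∧
    ∀ g ∈ pst G a b, g ≠ 1 → 3 * π g ≤ Fintype.card Ω + 2 := by
  classical
  have hline : ∀ x, x ∈ line G a b → x = a ∨ x = b := by
    have : line G a b = {a, b} := (eq_of_subset_of_card_le
      (by intro x hx; simp at hx; rcases hx with rfl | rfl
          exacts [left_mem_line _ _, right_mem_line _ _]) (by rw [hf, card_pair hab])).symm
    intro x hx; rw [this] at hx; simpa using hx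
  have hA := allTwo_of_le hall
  have hsq : ∀ k ∈ pst G a b, k * k = 1 := by
    intro k hk
    refine eq_of_smul_eq_smul fun x : Ω => ?_
    rw [one_smul, mul_smul]
    by_cases hx : k • x = x
    · rw [hx, hx]
    · by_contra h2
      exact hx (MulAction.injective k (by
        have := hA x k hk (k * k) ((pst G a b).mul_mem hk hk) hx (by rwa [mul_smul])
        rw [mul_smul] at this
        exact this.symm))
  have hP2 : IsPGroup 2 (pst G a b) := fun k =>
    ⟨1, Subtype.ext (by simpa [pow_two] using hsq k k.2)⟩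
  obtain ⟨e, he⟩ := IsPGroup.iff_card.1 hP2
  rw [Nat.card_eq_fintype_card] at he
  refine ⟨⟨e, he⟩, ?_⟩
  have hcomm : ∀ k ∈ pst G a b, ∀ l ∈ pst G a b, k * l = l * k := by
    intro k hk l hl
    have h1 := hsq _ ((pst G a b).mul_mem hk hl)
    calc k * l = (k * l) * (l * k) * (l * k) := by
            rw [mul_assoc (k*l), hsq _ ((pst G a b).mul_mem hl hk), mul_one]
      _ = k * (l * l) * k * (l * k) := by simp only [mul_assoc]
      _ = l * k := by rw [hsq l hl, mul_one, hsq k hk, one_mul]
  set A := stabilizer G a with hAdef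
  have hle : pst G a b ≤ A := inf_le_left
  set HA := (pst G a b).subgroupOf A with hHA
  -- the index is n - 1
  have horb : MulAction.orbit A b = {x | x ≠ a} := by
    ext x
    constructor
    · rintro ⟨⟨g, hg⟩, rfl⟩ e
      exact hab (MulAction.injective g (((mem_stabilizer_iff.1 hg).trans e.symm)))
    · intro hx
      obtain ⟨g, h1, h2⟩ := h a b a x hab (Ne.symm hx)
      exact ⟨⟨g, h1⟩, h2⟩
  have hstab : stabilizer A b = HA := by
    ext ⟨g, hg⟩
    simp only [hHA, Subgroup.mem_subgroupOf, mem_stabilizer_iff, mem_pst]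
    exact ⟨fun h => ⟨mem_stabilizer_iff.1 hg, h⟩, fun h => h.2⟩
  have hidx : HA.index = Fintype.card Ω - 1 := by
    rw [← hstab, index_stabilizer, horb]
    rw [show {x : Ω | x ≠ a} = ((univ.erase a : Finset Ω) : Set Ω) by ext; simp,
      Set.ncard_coe_finset, card_erase_of_mem (mem_univ a), card_univ]
  -- parity
  have hn1 : 1 ≤ Fintype.card Ω := Fintype.card_pos_iff.2 ⟨a⟩
  have hodd : ¬ 2 ∣ Fintype.card Ω - 1 := by
    obtain ⟨r, hr⟩ := exists_nat_orbits (Ω := Ω) (pst G a b)
    have hd := dd_of_allTwo hall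
    rw [dd, hr, hf] at hd
    have : (2 * r : ℕ) = Fintype.card Ω + 2 := by
      have : ((2 * r : ℕ) : ℚ) = ((Fintype.card Ω + 2 : ℕ) : ℚ) := by push_cast at hd ⊢; linarith
      exact_mod_cast this
    omega
  have hPA : IsPGroup 2 HA := hP2.of_equiv (Subgroup.subgroupOfEquivOfLe hle).symm
  haveI : Fact (Nat.Prime 2) := ⟨Nat.prime_two⟩
  let P : Sylow 2 A := hPA.toSylow (by rw [hidx]; exact hodd)
  have hPc : (P : Subgroup A) = HA := rfl
  have hN : Subgroup.normalizer (P : Set A) ≤ Subgroup.centralizer (P : Set A) := by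
    intro g hg
    have hgb : ((g : G) • b) ∈ line G a b := by
      refine mem_line.2 fun k hk => ?_
      have h1 := (Subgroup.mem_normalizer_iff''.1 hg ⟨k, hle hk⟩).1 (show _ ∈ HA from hk)
      have h2 := (mem_pst.1 (show ((g⁻¹ * ⟨k, hle hk⟩ * g : A) : G) ∈ pst G a b from h1)).2
      simpa [mul_smul, inv_smul_eq_iff] using h2
    rcases hline _ hgb with h1 | h1
    · exact absurd (MulAction.injective (g : G) (h1.trans (mem_stabilizer_iff.1 g.2).symm)) hab.symm
    · refine Subgroup.mem_centralizer_iff.2 fun k hk => ?_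
      exact Subtype.ext (hcomm _ (show (k : G) ∈ pst G a b from hk) _
        (mem_pst.2 ⟨mem_stabilizer_iff.1 g.2, h1⟩))
  set R := (MonoidHom.transferSylow P hN).ker
  have hc : Subgroup.IsComplement' R HA := hPc ▸ MonoidHom.ker_transferSylow_isComplement' P hN
  haveI : R.Normal := MonoidHom.normal_ker _
  have hRcard : Nat.card R = Fintype.card Ω - 1 := by rw [← hidx, hc.index_eq_card]
  have hinj : ∀ r ∈ R, ∀ s ∈ R, (r : G) • b = (s : G) • b → r = s := by
    intro r hr s hs e
    have h1 : r⁻¹ * s ∈ R ⊓ HA := by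
      refine ⟨R.mul_mem (R.inv_mem hr) hs, ?_⟩
      rw [← hstab]
      change ((r⁻¹ * s : A) : G) • b = b
      simp [mul_smul, ← e]
    rw [hc.disjoint.eq_bot] at h1
    exact inv_mul_eq_one.1 (Subgroup.mem_bot.1 h1)
  intro g hg hg1
  set h' : A := ⟨g, hle hg⟩ with hh'
  set C := R ⊓ Subgroup.centralizer ({h'} : Set A)
  -- fixed points other than a correspond to C
  have hsurj : ∀ x : Ω, x ≠ a → ∃ r ∈ R, (r : G) • b = x := by
    intro x hx
    let φ : R → {x : Ω // x ≠ a} := fun r => ⟨((r : A) : G) • b, by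
      have : ((r : A) : G) • b ∈ MulAction.orbit A b := ⟨(r : A), rfl⟩
      rw [horb] at this; exact this⟩
    have hbij : Function.Bijective φ := by
      refine (Fintype.bijective_iff_injective_and_card φ).2 ⟨fun r s e =>
        Subtype.ext (hinj r r.2 s s.2 (congrArg Subtype.val e)), ?_⟩
      rw [← Nat.card_eq_fintype_card, hRcard, Fintype.card_subtype_compl]
      simp
    obtain ⟨r, hr⟩ := hbij.2 ⟨x, hx⟩
    exact ⟨r, r.2, congrArg Subtype.val hr⟩
  have hkey : ∀ r ∈ R, g • (r : G) • b = (r : G) • b ↔ r ∈ C := by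
    intro r hr
    have e : g • (r : G) • b = ((h' * r * h'⁻¹ : A) : G) • b := by
      have hb : g⁻¹ • b = b := inv_smul_eq_iff.2 (mem_pst.1 hg).2.symm
      simp [hh', mul_smul, hb]
    rw [e]
    constructor
    · intro h1
      have h2 := hinj _ (Subgroup.Normal.conj_mem ‹_› r hr h') _ hr h1
      exact ⟨hr, Subgroup.mem_centralizer_singleton_iff.2 (mul_inv_eq_iff_eq_mul.1 h2).symm⟩
    · intro h1
      rw [← Subgroup.mem_centralizer_singleton_iff.1 h1.2, mul_inv_cancel_right]
  have hCcard : Nat.card C + 1 = π g := by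
    have ha : g • a = a := (mem_pst.1 hg).1
    have : (univ.filter fun r : A => r ∈ C).card = ((univ.filter fun x : Ω => g • x = x).erase a).card := by
      refine card_bij (fun r _ => (r : G) • b) ?_ ?_ ?_
      · intro r hr
        simp only [mem_filter, mem_univ, true_and] at hr
        simp only [mem_erase, mem_filter, mem_univ, true_and]
        refine ⟨?_, (hkey r hr.1).2 hr⟩
        have : (r : G) • b ∈ MulAction.orbit A b := ⟨r, rfl⟩
        rw [horb] at this; exact this
      · intro r hr s hs e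
        simp only [mem_filter, mem_univ, true_and] at hr hs
        exact hinj r hr.1 s hs.1 e
      · intro x hx
        simp only [mem_erase, mem_filter, mem_univ, true_and] at hx
        obtain ⟨r, hr, rfl⟩ := hsurj x hx.1
        exact ⟨r, by simpa using (hkey r hr).1 hx.2, rfl⟩
    rw [card_erase_of_mem (by simpa using ha)] at this
    rw [Nat.card_eq_fintype_card, Fintype.card_subtype, this, fx]
    have : 0 < (univ.filter fun x : Ω => g • x = x).card := card_pos.2 ⟨a, by simpa using ha⟩
    omega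
  have hdvd : Nat.card C ∣ Fintype.card Ω - 1 := hRcard ▸ Subgroup.card_dvd_of_le inf_le_left
  have hlt : π g < Fintype.card Ω := fx_lt hg1
  obtain ⟨q, hq⟩ := hdvd
  have hq2 : 3 ≤ q := by
    rcases q with _ | _ | _ | q
    · omega
    · omega
    · omega
    · omega
  have : Nat.card C * 3 ≤ Fintype.card Ω - 1 := hq ▸ Nat.mul_le_mul_left _ hq2
  omega

end Cfsg.Agent.Derange12
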