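import Cfsg.Agent.Derange12.LineTwo
import Cfsg.Agent.Derange12.LineThree

/-! A transitive group has at least `2|G|/n` derangements unless it is sharply two-transitive. -/

set_option autoImplicit false
set_option linter.unusedSectionVars false

namespace Cfsg.Agent.Derange12

open MulAction Finset

variable {G Ω : Type*} [Group G] [MulAction G Ω] [Fintype G] [DecidableEq G] [Fintype Ω] [DecidableEq Ω]

local notation "π" => fx (Ω := Ω)

theorem group_order [IsPretransitive G Ω] [Nonempty Ω] (h : Two G Ω) {a b : Ω} (hab : a ≠ b)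
    [Fintype (pst G a b)] : (Fintype.card G : ℚ) =
      (Fintype.card Ω : ℚ) * ((Fintype.card Ω : ℚ) - 1) * Fintype.card (pst G a b) := by
  have h1 : (∑ g : G, (π g : ℚ)) = Fintype.card G := by exact_mod_cast sum_fx (G := G) (Ω := Ω)
  have h2 : (∑ g : G, (π g : ℚ) * π g) = rank G Ω * Fintype.card G := by
    exact_mod_cast sum_fx_sq (G := G) (Ω := Ω)
  have h3 := sum_pairs h hab (fun _ => (1 : ℚ))
  rw [sum_const, card_univ, nsmul_eq_mul, mul_one] at h3
  rw [← h3, sum_congr rfl fun g _ => (show (π g : ℚ) * ((π g : ℚ) - 1) * 1 = π g * π g - π g by ring),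
    sum_sub_distrib, h1, h2, rank_eq_two h (by
      have := Fintype.one_lt_card_iff.2 ⟨a, b, hab⟩; omega)]
  push_cast; ring

theorem good_stabilizer [FaithfulSMul G Ω] [IsPretransitive G Ω] (h : Two G Ω)
    (hn : 7 ≤ Fintype.card Ω) {a b : Ω} (hab : a ≠ b) [Fintype (pst G a b)]
    (hm : 2 ≤ Fintype.card (pst G a b)) : Good (Ω := Ω) (pst G a b) := by
  classical
  haveI : Nonempty Ω := ⟨a⟩
  have h2 : ∀ k : pst G a b, 2 ≤ π (k : G) := fun k => two_le_fx hab k.2
  have hne : ∀ k : pst G a b, k ≠ 1 → (k : G) ≠ 1 := fun k hk e => hk (Subtype.ext e)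
  have hf2 : 2 ≤ (line G a b).card := by
    calc 2 = ({a, b} : Finset Ω).card := (card_pair hab).symm
      _ ≤ _ := card_le_card (by
        intro x hx; simp at hx; rcases hx with rfl | rfl
        exacts [left_mem_line _ _, right_mem_line _ _])
  have hn7 : (7 : ℚ) ≤ Fintype.card Ω := by exact_mod_cast hn
  have hm2 : (2 : ℚ) ≤ Fintype.card (pst G a b) := by exact_mod_cast hm
  obtain hf | hf | hf : (line G a b).card = 2 ∨ (line G a b).card = 3 ∨ 4 ≤ (line G a b).card := by
    omega
  · rcases shapes (G := G) (a := a) (b := b) with hall | ⟨x₀, hx₀, hrest⟩ | hd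
    · obtain ⟨⟨e, he⟩, hb⟩ := fx_bound_two h hab hf hall
      rcases Nat.lt_or_ge e 2 with he2 | he2
      · -- order two
        have he1 : e = 1 := by
          rcases e with _ | _ | e
          · simp at he; omega
          · rfl
          · omega
        have hm' : Fintype.card (pst G a b) = 2 := by rw [he, he1]; rfl
        refine good_of_dd _ h2 hm ?_
        rw [dd_of_allTwo hall, hf, hm']
        push_cast; linarith
      · have hm4 : (4 : ℚ) ≤ Fintype.card (pst G a b) := by
          have : 4 ≤ Fintype.card (pst G a b) := by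
            rw [he]; exact (by norm_num : 4 = 2 ^ 2).trans_le (Nat.pow_le_pow_right (by norm_num) he2)
          exact_mod_cast this
        refine good_of_bound _ (c := 3 * Fintype.card Ω / ((Fintype.card Ω : ℚ) + 2)) (by omega)
          (fun k hk => ?_) ?_
        · have h5 : (3 : ℚ) * π (k : G) ≤ Fintype.card Ω + 2 := by
            exact_mod_cast hb k k.2 (hne k hk)
          have h6 : (2 : ℚ) ≤ π (k : G) := by exact_mod_cast h2 k
          rw [div_le_div_iff₀ (by linarith) (by linarith)]
          nlinarith
        · rw [mul_div_assoc', ← sub_le_iff_le_add', le_div_iff₀ (by linarith)]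
          nlinarith
    · exact (no_single_three h hn hab hx₀ hrest).elim
    · refine good_of_dd _ h2 hm ?_
      rw [hf] at hd; push_cast at hd
      nlinarith
  · have hbound : ∀ g : G, g ≠ 1 → 2 * π g + 1 ≤ Fintype.card Ω := fun g hg => by
      have := fx_mul_le h hab hg
      rw [hf] at this
      omega
    rcases shapes (G := G) (a := a) (b := b) with hall | ⟨x₀, hx₀, hrest⟩ | hd
    · have h3 : ∀ k : pst G a b, k ≠ 1 → π (k : G) = 3 := fun k hk =>
        fx_eq_three h hab hf hall k.2 (hne k hk)
      by_cases h9 : 9 ≤ Fintype.card Ω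
      · refine good_of_bound _ (c := 3) (by omega) (fun k hk => ?_) (by linarith)
        rw [h3 k hk]
        have : (9 : ℚ) ≤ Fintype.card Ω := by exact_mod_cast h9
        push_cast; linarith
      · exfalso
        obtain ⟨r, hr⟩ := exists_nat_orbits (Ω := Ω) (pst G a b)
        have hd := dd_of_allTwo hall
        have hs := two_mul_sum_fx (Ω := Ω) (pst G a b)
        rw [← add_sum_erase _ _ (mem_univ (1 : pst G a b)), OneMemClass.coe_one, fx_one,
          sum_congr rfl fun k hk => by rw [h3 k (ne_of_mem_erase hk)], sum_const, nsmul_eq_mul,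
          card_erase_of_mem (mem_univ 1), card_univ, Nat.cast_sub (by omega), hd, hf] at hs
        rw [dd, hr, hf] at hd
        push_cast at hd hs
        have hr' : 2 * r = Fintype.card Ω + 3 := by
          have : ((2 * r : ℕ) : ℚ) = ((Fintype.card Ω + 3 : ℕ) : ℚ) := by push_cast; linarith
          exact_mod_cast this
        have h7 : Fintype.card Ω = 7 := by omega
        rw [h7] at hs
        push_cast at hs
        have hm' : (Fintype.card (pst G a b) : ℚ) = 2 := by linarith
        have hG := group_order h hab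
        rw [h7, hm'] at hG
        norm_num at hG
        refine no_seven h h7 hab ?_ ?_
        · rw [Nat.card_eq_fintype_card]; exact_mod_cast hG
        · rw [Nat.card_eq_fintype_card]; exact_mod_cast hm'
    · exfalso
      obtain ⟨k, -, -, hk1, hmk⟩ := exists_three hx₀ hrest
      have := fx_add_moved (Ω := Ω) k
      rw [hmk, hx₀] at this
      have := hbound k hk1
      omega
    · refine good_of_dd _ h2 hm ?_
      rw [hf] at hd; push_cast at hd
      -- the mean fixity of the nonidentity elements is at most `(n-1)/2`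
      have hs := two_mul_sum_fx (Ω := Ω) (pst G a b)
      rw [← add_sum_erase _ _ (mem_univ (1 : pst G a b)), OneMemClass.coe_one, fx_one] at hs
      have hb : ∀ k ∈ (univ : Finset (pst G a b)).erase 1,
          (π (k : G) : ℚ) ≤ ((Fintype.card Ω : ℚ) - 1) / 2 := by
        intro k hk
        have : (2 : ℚ) * π (k : G) + 1 ≤ Fintype.card Ω := by
          exact_mod_cast hbound k (hne k (ne_of_mem_erase hk))
        linarith
      have hb' := sum_le_sum hb
      rw [sum_const, nsmul_eq_mul, card_erase_of_mem (mem_univ 1), card_univ,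
        Nat.cast_sub (by omega)] at hb'
      push_cast at hb'
      set d := dd (Ω := Ω) (pst G a b)
      set m : ℚ := (Fintype.card (pst G a b) : ℚ)
      set n : ℚ := (Fintype.card Ω : ℚ)
      have hmd : m * (d + 1) ≤ n + 1 := by nlinarith
      by_cases hd0 : d ≤ 0
      · nlinarith
      · push Not at hd0
        by_cases hmn : 2 * m - 1 ≤ n
        · nlinarith
        · nlinarith
  · refine good_of_bound _ (c := 3) (by omega) (fun k hk => ?_) (by linarith)
    have h5 := fx_mul_le h hab (hne k hk)
    have h6 : 3 * π (k : G) ≤ Fintype.card Ω := by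
      have := Nat.mul_le_mul_left (π (k : G)) (show 3 ≤ (line G a b).card - 1 by omega)
      rw [mul_comm 3]; omega
    rw [le_div_iff₀ (by exact_mod_cast (by have := h2 k; omega : 0 < π (k : G)))]
    exact_mod_cast h6

theorem two_over_degree [FaithfulSMul G Ω] [IsPretransitive G Ω] (hn : 7 ≤ Fintype.card Ω) :
    (Two G Ω ∧ ∀ a b : Ω, a ≠ b → Nat.card (pst G a b) = 1) ∨
      2 * Fintype.card G ≤ Fintype.card Ω * (univ.filter fun g : G => π g = 0).card := by
  classical
  haveI : Nonempty Ω := Fintype.card_pos_iff.1 (by omega)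
  have hid := derangement_identity (G := G) (Ω := Ω)
  have hT : ∀ g : G, 0 ≤ (π g : ℚ) * ((π g : ℚ) - 1) * (((Fintype.card Ω : ℚ) - π g) / π g) := by
    intro g
    rcases Nat.eq_zero_or_pos (π g) with h0 | h0
    · simp [h0]
    · have h1 : (1 : ℚ) ≤ π g := by exact_mod_cast h0
      have h2 : (π g : ℚ) ≤ Fintype.card Ω := by exact_mod_cast fx_le g
      exact mul_nonneg (mul_nonneg (by linarith) (by linarith)) (div_nonneg (by linarith) (by linarith))
  by_cases h : Two G Ω
  · by_cases hsharp : ∀ a b : Ω, a ≠ b → Nat.card (pst G a b) = 1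
    · exact Or.inl ⟨h, hsharp⟩
    refine Or.inr ?_
    push Not at hsharp
    obtain ⟨a, b, hab, hm⟩ := hsharp
    rw [Nat.card_eq_fintype_card] at hm
    have hm2 : 2 ≤ Fintype.card (pst G a b) := by
      have := Fintype.card_pos (α := pst G a b)
      omega
    have hg := good_stabilizer h hn hab hm2
    have hS := sum_pairs h hab (fun p => ((Fintype.card Ω : ℚ) - p) / p)
    have hG := group_order h hab
    rw [hS, rank_eq_two h (by omega)] at hid
    have hsum : (Fintype.card (pst G a b) : ℚ) ≤
        ∑ k : pst G a b, ((Fintype.card Ω : ℚ) - π (k : G)) / π (k : G) := by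
      have e : ∀ k : pst G a b, ((Fintype.card Ω : ℚ) - π (k : G)) / π (k : G) =
          (Fintype.card Ω : ℚ) / π (k : G) - 1 := fun k => by
        have : (π (k : G) : ℚ) ≠ 0 := by
          have := two_le_fx (Ω := Ω) hab k.2
          exact_mod_cast (by omega : π (k : G) ≠ 0)
        field_simp
      rw [sum_congr rfl fun k _ => e k, sum_sub_distrib, sum_const, card_univ, nsmul_eq_mul, mul_one]
      unfold Good at hg
      linarith
    have hnn : (0 : ℚ) ≤ (Fintype.card Ω : ℚ) * ((Fintype.card Ω : ℚ) - 1) := by
      have : (7 : ℚ) ≤ Fintype.card Ω := by exact_mod_cast hn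
      nlinarith
    have := mul_le_mul_of_nonneg_left hsum hnn
    rw [← hG] at this
    push_cast at hid
    have : ((2 * Fintype.card G : ℕ) : ℚ) ≤
        ((Fintype.card Ω * (univ.filter fun g : G => π g = 0).card : ℕ) : ℚ) := by
      push_cast; linarith
    exact_mod_cast this
  · refine Or.inr ?_
    have h3 : (3 : ℚ) ≤ rank G Ω := by exact_mod_cast three_le_rank h
    have h4 := sum_nonneg fun g (_ : g ∈ (univ : Finset G)) => hT g
    have : ((2 * Fintype.card G : ℕ) : ℚ) ≤
        ((Fintype.card Ω * (univ.filter fun g : G => π g = 0).card : ℕ) : ℚ) := by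
      rw [hid]; push_cast
      have : (0 : ℚ) ≤ (Fintype.card G : ℚ) := Nat.cast_nonneg _
      nlinarith
    exact_mod_cast this

/-- The sharply two-transitive case. -/
theorem sharp_case [FaithfulSMul G Ω] [IsPretransitive G Ω] (hn : 7 ≤ Fintype.card Ω) (h : Two G Ω)
    (hs : ∀ a b : Ω, a ≠ b → Nat.card (pst G a b) = 1) :
    Fintype.card G = Fintype.card Ω * (Fintype.card Ω - 1) ∧
    (∀ g : G, g ≠ 1 → π g ≤ 1) ∧
    Fintype.card Ω * (univ.filter fun g : G => π g = 0).card = Fintype.card G := by
  classical
  haveI : Nonempty Ω := Fintype.card_pos_iff.1 (by omega)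
  have hfix : ∀ g : G, g ≠ 1 → π g ≤ 1 := by
    intro g hg
    by_contra hlt
    obtain ⟨x, hx, y, hy, hxy⟩ := one_lt_card.1 (show 1 < π g by omega)
    simp only [mem_filter, mem_univ, true_and] at hx hy
    have := (Subgroup.eq_bot_of_card_eq (pst G x y) (hs x y hxy))
    exact hg (by simpa [this] using (mem_pst.2 ⟨hx, hy⟩ : g ∈ pst G x y))
  obtain ⟨a, b, hab⟩ := Fintype.exists_pair_of_one_lt_card (show 1 < Fintype.card Ω by omega)
  have hG := group_order h hab
  rw [← Nat.card_eq_fintype_card (α := pst G a b), hs a b hab] at hG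
  refine ⟨?_, hfix, ?_⟩
  · have : (Fintype.card G : ℚ) = ((Fintype.card Ω * (Fintype.card Ω - 1) : ℕ) : ℚ) := by
      rw [hG, Nat.cast_mul, Nat.cast_sub (by omega)]; push_cast; ring
    exact_mod_cast this
  · have hid := derangement_identity (G := G) (Ω := Ω)
    rw [rank_eq_two h (by omega), sum_eq_zero (fun g _ => ?_), add_zero] at hid
    · push_cast at hid
      have : ((Fintype.card Ω * (univ.filter fun g : G => π g = 0).card : ℕ) : ℚ) =
          ((Fintype.card G : ℕ) : ℚ) := by push_cast; linarith
      exact_mod_cast this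
    · by_cases hg : g = 1
      · simp [hg, fx_one]
      · rcases Nat.le_one_iff_eq_zero_or_eq_one.1 (hfix g hg) with e | e <;> simp [e]

end Cfsg.Agent.Derange12
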