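import Cfsg.Agent.Derange12.Count

/-! Possible shapes of the orbits of a two-point stabilizer. -/

set_option autoImplicit false
set_option linter.unusedSectionVars false

namespace Cfsg.Agent.Derange12

open MulAction Finset

variable {G Ω : Type*} [Group G] [MulAction G Ω] [Fintype G] [Fintype Ω] [DecidableEq Ω]

/-- All orbits have length at most two. -/
def AllTwo (G : Type*) [Group G] {Ω : Type*} [MulAction G Ω] (a b : Ω) : Prop :=
  ∀ x : Ω, ∀ k ∈ pst G a b, ∀ k' ∈ pst G a b, k • x ≠ x → k' • x ≠ x → k • x = k' • x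

variable {a b : Ω} [Fintype (pst G a b)]

theorem card_orb_eq_one {x : Ω} : (orb (pst G a b) x).card = 1 ↔ x ∈ line G a b := by
  rw [mem_line, card_eq_one]
  constructor
  · rintro ⟨y, hy⟩ k hk
    have h1 : x ∈ orb (pst G a b) x := mem_orb_self _ x
    have h2 : k • x ∈ orb (pst G a b) x := (mem_orb _).2 ⟨k, hk, rfl⟩
    rw [hy, mem_singleton] at h1 h2
    rw [h2, ← h1]
  · intro hx
    refine ⟨x, eq_singleton_iff_unique_mem.2 ⟨mem_orb_self _ x, fun y hy => ?_⟩⟩
    obtain ⟨k, hk, rfl⟩ := (mem_orb _).1 hy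
    exact hx k hk

theorem two_le_orb {x : Ω} (hx : x ∉ line G a b) : 2 ≤ (orb (pst G a b) x).card := by
  have := mt card_orb_eq_one.1 hx
  have := orb_pos (pst G a b) x
  omega

theorem sum_line : ∑ x ∈ line G a b, (2 * ((orb (pst G a b) x).card : ℚ)⁻¹ - 1) =
    (line G a b).card := by
  rw [sum_congr rfl fun x hx => by rw [card_orb_eq_one.2 hx]]
  norm_num

theorem orb_disjoint_line {x : Ω} (hx : 2 ≤ (orb (pst G a b) x).card) :
    Disjoint (line G a b) (orb (pst G a b) x) :=
  Finset.disjoint_left.2 fun y hy hy' => by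
    have := card_orb_eq_one.2 hy
    rw [orb_eq _ hy'] at this
    omega

theorem allTwo_of_le (h : ∀ x : Ω, (orb (pst G a b) x).card ≤ 2) : AllTwo G a b := by
  intro x k hk k' hk' h1 h2
  by_contra h3
  have : ({x, k • x, k' • x} : Finset Ω) ⊆ orb (pst G a b) x := by
    intro y hy
    simp only [mem_insert, mem_singleton] at hy
    rcases hy with rfl | rfl | rfl
    · exact mem_orb_self _ _
    · exact (mem_orb _).2 ⟨k, hk, rfl⟩
    · exact (mem_orb _).2 ⟨k', hk', rfl⟩
  have h4 := (card_le_card this).trans (h x)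
  rw [card_eq_three.2 ⟨_, _, _, h1.symm, h2.symm, h3, rfl⟩] at h4
  omega

/-- The three possible shapes. -/
theorem shapes : (∀ x : Ω, (orb (pst G a b) x).card ≤ 2) ∨
    (∃ x₀ : Ω, (orb (pst G a b) x₀).card = 3 ∧
      ∀ y ∉ orb (pst G a b) x₀, (orb (pst G a b) y).card ≤ 2) ∨
    dd (Ω := Ω) (pst G a b) ≤ (line G a b).card - 2 := by
  by_cases h1 : ∀ x : Ω, (orb (pst G a b) x).card ≤ 2
  · exact Or.inl h1
  push Not at h1
  obtain ⟨x₀, hx₀⟩ := h1
  by_cases h2 : (orb (pst G a b) x₀).card = 3 ∧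
      ∀ y ∉ orb (pst G a b) x₀, (orb (pst G a b) y).card ≤ 2
  · exact Or.inr (Or.inl ⟨x₀, h2⟩)
  refine Or.inr (Or.inr ?_)
  have hd := orb_disjoint_line (G := G) (a := a) (b := b) (x := x₀) (by omega)
  by_cases h3 : (orb (pst G a b) x₀).card = 3
  · simp only [h3, true_and] at h2
    push Not at h2
    obtain ⟨y, hy, hy3⟩ := h2
    have hd' := orb_disjoint_line (G := G) (a := a) (b := b) (x := y) (by omega)
    have hd'' : Disjoint (orb (pst G a b) x₀) (orb (pst G a b) y) :=
      Finset.disjoint_left.2 fun z hz hz' => hy (by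
        rw [← orb_eq _ hz, orb_eq _ hz']; exact mem_orb_self _ y)
    have := dd_le (pst G a b) (D := line G a b ∪ (orb (pst G a b) x₀ ∪ orb (pst G a b) y))
      fun z hz => two_le_orb fun hz' => hz (mem_union_left _ hz')
    rw [sum_union (disjoint_union_right.2 ⟨hd, hd'⟩), sum_union hd'', sum_line, sum_orb, sum_orb,
      h3] at this
    have : (3 : ℚ) ≤ (orb (pst G a b) y).card := by exact_mod_cast hy3
    push_cast at *
    linarith
  · have := dd_le (pst G a b) (D := line G a b ∪ orb (pst G a b) x₀)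
      fun z hz => two_le_orb fun hz' => hz (mem_union_left _ hz')
    rw [sum_union hd, sum_line, sum_orb] at this
    have : (4 : ℚ) ≤ (orb (pst G a b) x₀).card := by exact_mod_cast (by omega : 4 ≤ _)
    linarith

theorem dd_of_allTwo (h : ∀ x : Ω, (orb (pst G a b) x).card ≤ 2) :
    dd (Ω := Ω) (pst G a b) = (line G a b).card := by
  have e : dd (Ω := Ω) (pst G a b) =
      ∑ x : Ω, (2 * ((orb (pst G a b) x).card : ℚ)⁻¹ - 1) := by
    rw [dd, sum_sub_distrib, mul_sum]; simp
  rw [e, ← sum_line (G := G) (a := a) (b := b)]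
  refine (sum_subset (subset_univ _) fun x _ hx => ?_).symm
  rw [le_antisymm (h x) (two_le_orb hx)]
  norm_num

/-- Moved points. -/
def moved (g : G) : Finset Ω := univ.filter fun x => g • x ≠ x

theorem fx_add_moved (g : G) : fx (Ω := Ω) g + (moved (Ω := Ω) g).card = Fintype.card Ω := by
  rw [fx, moved, card_filter_add_card_filter_not, card_univ]

/-- With a single long orbit of length three, elements of order three move exactly that orbit. -/
theorem moved_eq_orb [FaithfulSMul G Ω] {x₀ : Ω} (h3 : (orb (pst G a b) x₀).card = 3)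
    (hrest : ∀ y ∉ orb (pst G a b) x₀, (orb (pst G a b) y).card ≤ 2)
    {k : G} (hk : k ∈ pst G a b) (hk3 : k ^ 3 = 1) (hk1 : k ≠ 1) :
    moved (Ω := Ω) k = orb (pst G a b) x₀ := by
  have hk3' : k * k * k = 1 := by rw [← hk3, pow_succ, pow_two]
  have hsub : ∀ x, k • x ≠ x → x ∈ orb (pst G a b) x₀ := by
    intro x hx
    by_contra hx'
    have h := allTwo_aux (hrest x hx') hk hx
    rcases h with h | h
    · exact hx (by
        have h5 := congrArg (fun y => k • y) h
        simp only [← mul_smul, ← mul_assoc, hk3', one_smul] at h5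
        exact h5.symm)
    · exact hx (MulAction.injective k h)
  obtain ⟨x, hx⟩ : ∃ x : Ω, k • x ≠ x := by
    by_contra hc; push Not at hc
    exact hk1 (eq_of_smul_eq_smul fun x : Ω => by rw [hc x, one_smul])
  have hx2 : k • k • x ≠ x := fun e => hx (by
    have h5 := congrArg (fun y => k • y) e
    simp only [← mul_smul, ← mul_assoc, hk3', one_smul] at h5
    exact h5.symm)
  have hxx : k • k • x ≠ k • x := fun e => hx (MulAction.injective k e)
  have hxxx : k • k • k • x ≠ k • k • x := fun e => hxx (MulAction.injective k e)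
  refine eq_of_subset_of_card_le (fun y hy => hsub y (mem_filter.1 hy).2) ?_
  rw [h3]
  calc 3 = ({x, k • x, k • k • x} : Finset Ω).card :=
        (card_eq_three.2 ⟨_, _, _, hx.symm, hx2.symm, hxx.symm, rfl⟩).symm
    _ ≤ _ := card_le_card (by
        intro y hy
        simp only [mem_insert, mem_singleton] at hy
        simp only [moved, mem_filter, mem_univ, true_and]
        rcases hy with rfl | rfl | rfl
        exacts [hx, hxx, hxxx])
where
  allTwo_aux {x : Ω} (h : (orb (pst G a b) x).card ≤ 2) {k : G} (hk : k ∈ pst G a b)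
      (hx : k • x ≠ x) : k • k • x = x ∨ k • k • x = k • x := by
    by_contra hc
    push Not at hc
    have : ({x, k • x, k • k • x} : Finset Ω) ⊆ orb (pst G a b) x := by
      intro y hy
      simp only [mem_insert, mem_singleton] at hy
      rcases hy with rfl | rfl | rfl
      · exact mem_orb_self _ _
      · exact (mem_orb _).2 ⟨k, hk, rfl⟩
      · exact (mem_orb _).2 ⟨k * k, (pst G a b).mul_mem hk hk, mul_smul _ _ _⟩
    have h4 := (card_le_card this).trans h
    rw [card_eq_three.2 ⟨_, _, _, hx.symm, (Ne.symm hc.1), (Ne.symm hc.2), rfl⟩] at h4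
    omega

theorem exists_three [FaithfulSMul G Ω] {x₀ : Ω} (h3 : (orb (pst G a b) x₀).card = 3)
    (hrest : ∀ y ∉ orb (pst G a b) x₀, (orb (pst G a b) y).card ≤ 2) :
    ∃ k ∈ pst G a b, k ^ 3 = 1 ∧ k ≠ 1 ∧ moved (Ω := Ω) k = orb (pst G a b) x₀ := by
  classical
  haveI : Fact (Nat.Prime 3) := ⟨Nat.prime_three⟩
  have hd : 3 ∣ Fintype.card (pst G a b) := h3 ▸ Dvd.intro _ (orb_mul_stab (pst G a b) x₀)
  obtain ⟨k, hk⟩ := exists_prime_orderOf_dvd_card 3 hd
  have hk3 : (k : G) ^ 3 = 1 := by
    rw [← SubmonoidClass.coe_pow, ← hk, pow_orderOf_eq_one, OneMemClass.coe_one]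
  have hk1 : (k : G) ≠ 1 := fun e => by
    rw [OneMemClass.coe_eq_one] at e
    rw [e, orderOf_one] at hk
    omega
  exact ⟨k, k.2, hk3, hk1, moved_eq_orb h3 hrest k.2 hk3 hk1⟩

end Cfsg.Agent.Derange12
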