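import Cfsg.Agent.Derange12.Shapes

/-! Transport between pairs of points; elements moving three points. -/

set_option autoImplicit false
set_option linter.unusedSectionVars false

namespace Cfsg.Agent.Derange12

open MulAction Finset

variable {G Ω : Type*} [Group G] [MulAction G Ω] [Fintype G] [Fintype Ω] [DecidableEq Ω]

theorem allTwo_transport (h : Two G Ω) {a b c d : Ω} (hab : a ≠ b) (hcd : c ≠ d)
    (h2 : AllTwo G a b) : AllTwo G c d := by
  obtain ⟨g, rfl, rfl⟩ := h a b c d hab hcd
  intro x k hk k' hk' hx hx'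
  have e : ∀ l : G, l ∈ pst G (g • a) (g • b) → g⁻¹ * l * g ∈ pst G a b := fun l hl =>
    (conj_mem_pst (g := g)).2 (by simpa [mul_assoc] using hl)
  have hne : ∀ l : G, l • x ≠ x → (g⁻¹ * l * g) • (g⁻¹ • x) ≠ g⁻¹ • x := fun l hl e' => hl (by
    simpa [mul_smul] using e')
  have h3 := h2 (g⁻¹ • x) _ (e k hk) _ (e k' hk') (hne k hx) (hne k' hx')
  simpa [mul_smul] using h3

theorem smul_mem_line (g : G) {a b z : Ω} (hz : z ∈ line G a b) :
    g • z ∈ line G (g • a) (g • b) := by
  refine mem_line.2 fun l hl => ?_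
  have := mem_line.1 hz _ ((conj_mem_pst (g := g) (k := g⁻¹ * l * g)).2 (by
    simpa [mul_assoc] using hl))
  simpa [mul_smul, inv_smul_eq_iff] using this

theorem moved_conj (g k : G) :
    moved (Ω := Ω) (g * k * g⁻¹) = (moved k).image (fun x => g • x) := by
  ext y
  simp only [moved, mem_filter, mem_univ, true_and, mem_image]
  constructor
  · intro hy
    refine ⟨g⁻¹ • y, fun e => hy ?_, smul_inv_smul g y⟩
    rw [mul_smul, mul_smul, e, smul_inv_smul]
  · rintro ⟨x, hx, rfl⟩ e
    exact hx (MulAction.injective g (by simpa [mul_smul] using e))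

/-- An element of order three moving three points. -/
def IsThree (Ω : Type*) [MulAction G Ω] [Fintype Ω] [DecidableEq Ω] (k : G) : Prop :=
  k ^ 3 = 1 ∧ (moved (Ω := Ω) k).card = 3

theorem isThree_conj {g k : G} (hk : IsThree Ω k) : IsThree Ω (g * k * g⁻¹) := by
  refine ⟨by rw [conj_pow, hk.1]; simp, ?_⟩
  rw [moved_conj, card_image_of_injective _ (MulAction.injective g), hk.2]

theorem three_unique [FaithfulSMul G Ω] (h : Two G Ω) {a b : Ω} (hab : a ≠ b)
    [Fintype (pst G a b)] {x₀ : Ω} (h3 : (orb (pst G a b) x₀).card = 3)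
    (hrest : ∀ y ∉ orb (pst G a b) x₀, (orb (pst G a b) y).card ≤ 2)
    {p q : Ω} (hpq : p ≠ q) {k l : G} (hk : k ∈ pst G p q) (hl : l ∈ pst G p q)
    (hk3 : IsThree Ω k) (hl3 : IsThree Ω l) : moved (Ω := Ω) k = moved l := by
  obtain ⟨g, h1, h2⟩ := h a b p q hab hpq
  have key : ∀ u : G, u ∈ pst G p q → IsThree Ω u →
      moved (Ω := Ω) u = (orb (pst G a b) x₀).image (fun x => g • x) := by
    intro u hu hu3
    have hu' : g⁻¹ * u * g ∈ pst G a b := by
      rw [conj_mem_pst g, h1, h2]; simpa [mul_assoc] using hu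
    have hne : g⁻¹ * u * g ≠ 1 := fun e => by
      have : u = 1 := by
        have := congrArg (fun v => g * v * g⁻¹) e; simpa [mul_assoc] using this
      have h5 := hu3.2
      rw [this] at h5
      simp [moved] at h5
    have hp : (g⁻¹ * u * g) ^ 3 = 1 := by
      have := (isThree_conj (g := g⁻¹) hu3).1
      simpa using this
    rw [← moved_eq_orb h3 hrest hu' hp hne, ← moved_conj]
    congr 1; group
  rw [key k hk hk3, key l hl hl3]

end Cfsg.Agent.Derange12
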